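import Mathlib
/-!
Geometrically reduced times reduced over a field is reduced.
-/
universe u v
open AlgebraicGeometry CategoryTheory CategoryTheory.Limits TensorProduct
set_option backward.isDefEq.respectTransparency false
set_option linter.style.haveILetI false

namespace Groth.Agent.GeomRedPull

theorem piRightHom_injective {R N : Type u} [Field R] [AddCommGroup N] [Module R N] {ι : Type u}
    (M : ι → Type u) [∀ i, AddCommGroup (M i)] [∀ i, Module R (M i)] :
    Function.Injective (TensorProduct.piRightHom R R N M) := by
  classical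
  let b := Module.Free.chooseBasis R N
  have key : ∀ (z : N ⊗[R] (∀ i, M i)) (j : ι) i,
      (TensorProduct.equivFinsuppOfBasisLeft b (TensorProduct.piRightHom R R N M z j)) i =
        (TensorProduct.equivFinsuppOfBasisLeft b z) i j := by
    intro z j i
    induction z with
    | zero => simp
    | tmul x f => simp
    | add x y hx hy => simp [hx, hy]
  intro z w h
  apply (TensorProduct.equivFinsuppOfBasisLeft b).injective
  ext i j
  rw [← key, ← key, h]

theorem isReduced_tensor {k B C : Type u} [Field k] [CommRing B] [CommRing C] [Algebra k B]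
    [Algebra k C] [_root_.IsReduced C]
    (hB : ∀ (K : Type u) [Field K] [Algebra k K], _root_.IsReduced (B ⊗[k] K)) :
    _root_.IsReduced (B ⊗[k] C) := by
  let M : PrimeSpectrum C → Type u := fun p => p.asIdeal.ResidueField
  let ι : C →ₐ[k] (∀ p, M p) :=
    { RingHom.pi (fun p : PrimeSpectrum C => algebraMap C (M p)) with
      commutes' := fun a => funext fun p => (IsScalarTower.algebraMap_apply k C (M p) a).symm }
  have hι : Function.Injective ι.toLinearMap := by
    rw [← LinearMap.ker_eq_bot, eq_bot_iff]
    intro c hc
    rw [Submodule.mem_bot]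
    refine IsReduced.eq_zero c ?_
    rw [← mem_nilradical, nilradical_eq_sInf, Ideal.mem_sInf]
    intro p hp
    haveI : p.IsPrime := hp
    exact Ideal.algebraMap_residueField_eq_zero.1
      (congrFun (LinearMap.mem_ker.1 hc) ⟨p, hp⟩)
  refine ⟨fun z hz => ?_⟩
  haveI : ∀ p, _root_.IsReduced (B ⊗[k] M p) := fun p => hB (M p)
  have h1 : TensorProduct.piRightHom k k B M (LinearMap.lTensor B ι.toLinearMap z) = 0 := by
    funext p
    have hz' := hz.map ((Pi.evalRingHom (fun p => B ⊗[k] M p) p).comp
      ((Algebra.TensorProduct.piRightHom k k B M).comp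
        (Algebra.TensorProduct.map (AlgHom.id k B) ι)).toRingHom)
    exact IsReduced.eq_zero _ hz'
  have h2 : LinearMap.lTensor B ι.toLinearMap z = 0 :=
    piRightHom_injective M (h1.trans (map_zero _).symm)
  exact Module.Flat.lTensor_preserves_injective_linearMap ι.toLinearMap hι (h2.trans (map_zero _).symm)

theorem isReduced_pullback {k : Type u} [Field k] {X S : Scheme.{u}}
    (f : X ⟶ Spec (CommRingCat.of k)) (g : S ⟶ Spec (CommRingCat.of k))
    [GeometricallyReduced f] [AlgebraicGeometry.IsReduced S] :
    AlgebraicGeometry.IsReduced (pullback f g) := by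
  apply +allowSynthFailures @IsReduced.of_openCover
    (𝒰 := Scheme.Pullback.openCoverOfLeftRight X.affineCover S.affineCover f g)
  rintro ⟨i, j⟩
  suffices H : ∀ (B C : CommRingCat.{u}) (a : Spec B ⟶ X) [IsOpenImmersion a] (b : Spec C ⟶ S)
      [IsOpenImmersion b], AlgebraicGeometry.IsReduced (pullback (a ≫ f) (b ≫ g)) from
    H _ _ (X.affineCover.f i) (S.affineCover.f j)
  intro B C a _ b _
  obtain ⟨φ, hφ⟩ := Spec.map_surjective (a ≫ f)
  obtain ⟨ψ, hψ⟩ := Spec.map_surjective (b ≫ g)
  algebraize [φ.hom, ψ.hom]
  haveI : _root_.IsReduced C := by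
    haveI := isReduced_of_isOpenImmersion b
    exact (affine_isReduced_iff C).1 inferInstance
  haveI hBK : ∀ (K : Type u) [Field K] [Algebra k K], _root_.IsReduced ((B : Type u) ⊗[k] K) := by
    intro K _ _
    let y := Spec.map (CommRingCat.ofHom (algebraMap k K))
    haveI : AlgebraicGeometry.IsReduced (pullback f y) :=
      pullback_of_geometrically GeometricallyReduced.geometrically_isReduced K y
    haveI : AlgebraicGeometry.IsReduced (pullback (a ≫ f) y) :=
      isReduced_of_isOpenImmersion (pullback.map (a ≫ f) y f y a (𝟙 _) (𝟙 _) (by simp) (by simp))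
    haveI : AlgebraicGeometry.IsReduced (pullback (Spec.map φ) y) :=
      isReduced_of_isOpenImmersion (pullback.congrHom hφ (rfl : y = y)).hom
    haveI : AlgebraicGeometry.IsReduced (Spec (CommRingCat.of ((B : Type u) ⊗[k] K))) :=
      isReduced_of_isOpenImmersion (pullbackSpecIso k B K).inv
    have hR : _root_.IsReduced (CommRingCat.of ((B : Type u) ⊗[k] K)) :=
      (affine_isReduced_iff _).1 inferInstance
    exact hR
  haveI := isReduced_tensor (k := k) (B := B) (C := C) hBK
  haveI : AlgebraicGeometry.IsReduced (Spec (CommRingCat.of ((B : Type u) ⊗[k] (C : Type u)))) :=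
    inferInstance
  haveI : AlgebraicGeometry.IsReduced (pullback (Spec.map φ) (Spec.map ψ)) :=
    isReduced_of_isOpenImmersion (pullbackSpecIso k B C).hom
  exact isReduced_of_isOpenImmersion (pullback.congrHom hφ hψ).inv

end Groth.Agent.GeomRedPull
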