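import Mathlib
import Groth.Agent.GeomRedPull.Basic
import Groth.Agent.FinHopf.PerfTensor
import Groth.Agent.FlatMor.ReducedDescent
/-!
Geometrically reduced algebras and base change of fields.
-/
universe u
open AlgebraicGeometry CategoryTheory CategoryTheory.Limits TensorProduct
set_option backward.isDefEq.respectTransparency false
set_option linter.style.haveILetI false

namespace Groth.Agent.GeomRedPull

theorem isReduced_field_tensor {k A : Type u} [Field k] [CommRing A] [Algebra k A]
    [Algebra.IsGeometricallyReduced k A] (L : Type u) [Field L] [Algebra k L] :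
    _root_.IsReduced (L ⊗[k] A) := by
  let Ω := AlgebraicClosure L
  let K := AlgebraicClosure k
  let ι : K →ₐ[k] Ω := IsAlgClosed.lift
  letI := ι.toRingHom.toAlgebra
  haveI : IsScalarTower k K Ω := IsScalarTower.of_algebraMap_eq fun a => (ι.commutes a).symm
  haveI : _root_.IsReduced (K ⊗[k] A) := (Algebra.isGeometricallyReduced_field_iff k A).1 ‹_›
  haveI : _root_.IsReduced (Ω ⊗[K] (K ⊗[k] A)) :=
    Groth.Agent.FinHopf.isReduced_tensor_of_perfect K (K ⊗[k] A) Ω
  haveI : _root_.IsReduced (Ω ⊗[k] A) :=
    isReduced_of_injective _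
      (Algebra.TensorProduct.cancelBaseChange k K Ω Ω A).symm.injective
  exact isReduced_of_injective
    (Algebra.TensorProduct.map (IsScalarTower.toAlgHom k L Ω) (AlgHom.id k A))
    (Module.Flat.rTensor_preserves_injective_linearMap _ (algebraMap L Ω).injective)

theorem geometricallyReduced_Spec {k C : Type u} [Field k] [CommRing C] [Algebra k C]
    (hC : ∀ (K : Type u) [Field K] [Algebra k K], _root_.IsReduced (C ⊗[k] K)) :
    GeometricallyReduced (Spec.map (CommRingCat.ofHom (algebraMap k C))) := by
  refine ⟨geometrically_iff_of_commRing.2 fun K _ _ Z fst snd hZ => ?_⟩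
  haveI := hC K
  haveI : AlgebraicGeometry.IsReduced (Spec (CommRingCat.of (C ⊗[k] K))) := inferInstance
  exact isReduced_of_isOpenImmersion (hZ.isoPullback.hom ≫ (pullbackSpecIso k C K).hom)

theorem geometricallyReduced_pullback {k : Type u} [Field k] {X Y : Scheme.{u}}
    (f : X ⟶ Spec (CommRingCat.of k)) (g : Y ⟶ Spec (CommRingCat.of k))
    [GeometricallyReduced f] [GeometricallyReduced g] :
    GeometricallyReduced (pullback.fst f g ≫ f) := by
  refine ⟨geometrically_iff_of_commRing.2 fun K _ _ Z fst snd hZ => ?_⟩
  let y := Spec.map (CommRingCat.ofHom (algebraMap k K))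
  haveI : AlgebraicGeometry.IsReduced (pullback g y) :=
    pullback_of_geometrically GeometricallyReduced.geometrically_isReduced K y
  haveI : AlgebraicGeometry.IsReduced (pullback f (pullback.fst g y ≫ g)) :=
    isReduced_pullback f _
  haveI : AlgebraicGeometry.IsReduced (pullback (pullback.snd f g) (pullback.fst g y)) :=
    isReduced_of_isOpenImmersion (pullbackLeftPullbackSndIso f g (pullback.fst g y)).hom
  haveI : AlgebraicGeometry.IsReduced (pullback (pullback.snd f g ≫ g) y) :=
    isReduced_of_isOpenImmersion (pullbackRightPullbackFstIso g y (pullback.snd f g)).inv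
  exact isReduced_of_isOpenImmersion
    (hZ.isoPullback.hom ≫ (pullback.congrHom pullback.condition (rfl : y = y)).hom)

end Groth.Agent.GeomRedPull
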